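import Cfsg.Agent.H797.FQ.OC3

/-!
# Products of two long root elements of `C₃` on the extraspecial radical of `F₄(q)` (S2452, box (X); helper296)

* `cw m x` : `[x, m] ∈ X_θ`;
* `card_pair` : `m = x₄₁(a) x_s(b) ≠ 1`, `s ∈ {41, 30, 6}`: `q⁵ |{x ∈ V : cw m x}| ≤ q¹⁵`;
* `card_conj` : conjugation by an element of `M`.
-/

set_option autoImplicit false
set_option linter.unusedSectionVars false

namespace Cfsg.Agent.H296.FR.X

open CoxeterSystem Cfsg.Agent.ChevalleyStructure.CoxeterGeom Cfsg.Agent.Tits.Roots Cfsg.Agent.Tits.Core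
  Cfsg.Agent.Tits.Exchange Cfsg.Agent.Nodes.Reps Cfsg.Agent.Nodes.BNOf Cfsg.Agent.Nodes.StabComb
  Cfsg.Agent.Nodes.Bruhat Cfsg.Agent.Nodes.OppDec Cfsg.Agent.Nodes.LeviDec
  Cfsg.Agent.Nodes.RGDChev Cfsg.Agent.KFacts.RgdPar Cfsg.Agent.KFacts.RgdChevCoord
  Cfsg.Agent.H225.PPow Cfsg.Agent.H701.F43.Cent Cfsg.Agent.H797.FQ
open Cfsg.Lie Cfsg.Agent.ChevalleyStructure Cfsg.Agent.ChevalleyStructure.CoxeterGeomTypes

universe u

variable {K : Type u} [Field K]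

/-- the root group of the highest root -/
abbrev X47 (K : Type u) [Field K] : Subgroup ↥(chevF4.group K) := XX chevF4 4 K (vec chevF4 4 47)

theorem R_mem_iff [Finite K] {u : ↥(chevF4.group K)} {c : ℕ → K} (hu : R u c) :
    u ∈ X47 K ↔ ∀ s ∈ L14, c s = 0 := by
  obtain ⟨b, hb⟩ := hu
  constructor
  · intro h s hs
    obtain ⟨t, ht⟩ := (mem_XX_vec hF (by rw [nroots]; norm_num)).1 h
    have h1 : E L14 c * e 47 b = E L14 0 * e 47 t := by
      rw [← hb, E_zero, one_mul]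
      exact ht.symm
    exact (unique h1).1 s hs
  · intro h
    have h1 : u = e 47 b := by
      rw [hb, E_congr (d := 0) h, E_zero, one_mul]
    rw [h1]
    exact (mem_XX_vec hF (by rw [nroots]; norm_num)).2 ⟨b, rfl⟩

/-- `[x, m] ∈ X_θ` -/
def cw (m x : ↥(chevF4.group K)) : Prop := x * m * x⁻¹ * m⁻¹ ∈ X47 K

theorem cw_iff [Finite K] {m x : ↥(chevF4.group K)} {c c' : ℕ → K} (hx : R x c) (hy : R (m * x * m⁻¹) c') :
    cw m x ↔ ∀ s ∈ L14, c s = c' s := by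
  have h1 := hx.mul hy.inv
  have h2 : x * (m * x * m⁻¹)⁻¹ = x * m * x⁻¹ * m⁻¹ := by group
  rw [h2] at h1
  unfold cw
  rw [R_mem_iff h1]
  constructor
  · intro h s hs
    have h3 := h s hs
    rw [Pi.add_apply, Pi.neg_apply] at h3
    linear_combination h3
  · intro h s hs
    rw [Pi.add_apply, Pi.neg_apply, h s hs]
    ring

theorem conj_VV {m x : ↥(chevF4.group K)} [Finite K] (hm : m ∈ MM K) (hx : x ∈ VV K) : m * x * m⁻¹ ∈ VV K := by
  obtain ⟨p, hpc⟩ := CharP.exists K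
  have : Fact p.Prime := ⟨CharP.char_is_prime K p⟩
  have h := MM_le_normalizer (K := K) (p := p) hm
  exact (Subgroup.mem_normalizer_iff.1 h x).1 hx

theorem cw_mul [Finite K] {m x x' : ↥(chevF4.group K)} (hm : m ∈ MM K) (hx : x ∈ VV K) (hx' : x' ∈ VV K)
    (h : cw m x) (h' : cw m x') : cw m (x'⁻¹ * x) := by
  obtain ⟨c, hc⟩ := exists_R hx
  obtain ⟨d, hd⟩ := exists_R hx'
  obtain ⟨c', hc'⟩ := exists_R (conj_VV hm hx)
  obtain ⟨d', hd'⟩ := exists_R (conj_VV hm hx')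
  have h1 := (cw_iff hc hc').1 h
  have h2 := (cw_iff hd hd').1 h'
  have h3 : R (m * (x'⁻¹ * x) * m⁻¹) (-d' + c') := by
    have e1 : m * (x'⁻¹ * x) * m⁻¹ = (m * x' * m⁻¹)⁻¹ * (m * x * m⁻¹) := by group
    rw [e1]
    exact hd'.inv.mul hc'
  rw [cw_iff (hd.inv.mul hc) h3]
  intro s hs
  rw [Pi.add_apply, Pi.add_apply, Pi.neg_apply, Pi.neg_apply, h1 s hs, h2 s hs]

/-- extension by zero -/
noncomputable def xs (S : List ℕ) (f : ↥S.toFinset → K) (n : ℕ) : K := if h : n ∈ S.toFinset then f ⟨n, h⟩ else 0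

theorem R_E (c : ℕ → K) : R (E L14 c) c := ⟨0, by rw [show e 47 (0 : K) = 1 from ex_zero hF 47, mul_one]⟩

/-- **the count** -/
theorem count [Finite K] {m : ↥(chevF4.group K)} (hm : m ∈ MM K) (S : List ℕ) (hn : S.Nodup) (h5 : S.length = 5)
    (hSL : ∀ s ∈ S, s ∈ L14)
    (hinj : ∀ x (c : ℕ → K), x ∈ VV K → R x c → (∀ s ∈ L14, s ∉ S → c s = 0) → cw m x → ∀ s ∈ L14, c s = 0) :
    Nat.card K ^ 5 * Nat.card {x : ↥(VV K) // cw m (x : ↥(chevF4.group K))} ≤ Nat.card K ^ 15 := by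
  classical
  have hVV : ∀ c : ℕ → K, E L14 c ∈ VV K := fun c => E_mem_VV L14_sub c
  let Φ : (↥S.toFinset → K) × {x : ↥(VV K) // cw m (x : ↥(chevF4.group K))} → ↥(VV K) := fun z =>
    z.2.1 * ⟨E L14 (xs S z.1), hVV _⟩
  have hΦ : Function.Injective Φ := by
    rintro ⟨f, ⟨x, hx⟩⟩ ⟨f', ⟨x', hx'⟩⟩ h
    have h1 : (x : ↥(chevF4.group K)) * E L14 (xs S f) = (x' : ↥(chevF4.group K)) * E L14 (xs S f') :=
      congrArg Subtype.val h
    have h2 : (x' : ↥(chevF4.group K))⁻¹ * (x : ↥(chevF4.group K)) = E L14 (xs S f') * (E L14 (xs S f))⁻¹ := by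
      rw [inv_mul_eq_iff_eq_mul, ← mul_assoc, eq_mul_inv_iff_mul_eq]
      exact h1
    have h3 : R ((x' : ↥(chevF4.group K))⁻¹ * (x : ↥(chevF4.group K))) (xs S f' + -xs S f) := by
      rw [h2]
      exact (R_E _).mul (R_E _).inv
    have h4 := hinj _ _ (mul_mem (inv_mem x'.2) x.2) h3 (by
      intro s _ hsS
      have h5 : s ∉ S.toFinset := fun h => hsS (List.mem_toFinset.1 h)
      rw [Pi.add_apply, Pi.neg_apply, xs, xs, dif_neg h5, dif_neg h5]
      ring) (cw_mul hm x.2 x'.2 hx hx')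
    have hff : f = f' := by
      funext s
      have h5 := h4 s.1 (hSL _ (List.mem_toFinset.1 s.2))
      rw [Pi.add_apply, Pi.neg_apply, xs, xs, dif_pos s.2, dif_pos s.2] at h5
      linear_combination -h5
    subst hff
    have h6 : x = x' := Subtype.ext (mul_right_cancel h1)
    subst h6
    rfl
  have h6 := Nat.card_le_card_of_injective Φ hΦ
  have h7 : Nat.card ↥S.toFinset = 5 := by
    rw [Nat.card_eq_fintype_card, Fintype.card_coe, List.toFinset_card_of_nodup hn, h5]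
  rw [Nat.card_prod, Nat.card_fun, h7, card_VV] at h6
  exact h6

theorem theta_comm {g z : ↥(chevF4.group K)} [Finite K] (hg : g ∈ MM K) (hz : z ∈ X47 K) : g * z = z * g :=
  comm_theta (Subgroup.mem_sup_right hg) hz

/-- **the core** -/
theorem core [Finite K] {γ : ℕ} (hγ : γ ∈ idxM) {a : K} (ha : a ≠ 0) {y : ↥(chevF4.group K)} (hy : y ∈ MM K)
    {S : List ℕ}
    (hyS : ∀ x (c : ℕ → K), x ∈ VV K → R x c → (∀ s ∈ L14, s ∉ S → c s = 0) →
      ∃ c', R (y * x * y⁻¹) c' ∧ ∀ s ∈ L14, s ∉ S → c' s = 0)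
    (htab : ∀ s ∈ S, ∃ t ∈ L14, t ∉ S ∧ ∃ N : ℤ, (N = 1 ∨ N = -1) ∧ ctr γ t = [(s, N, 1, 1)])
    (x : ↥(chevF4.group K)) (c : ℕ → K) (hx : x ∈ VV K) (hc : R x c) (hS : ∀ s ∈ L14, s ∉ S → c s = 0)
    (hcw : cw (e γ a * y) x) : ∀ s ∈ L14, c s = 0 := by
  obtain ⟨c', hc', hS'⟩ := hyS x c hx hc hS
  have h1 := hc'.conj hγ a
  have h2 : e γ a * (y * x * y⁻¹) * (e γ a)⁻¹ = (e γ a * y) * x * (e γ a * y)⁻¹ := by group
  rw [h2] at h1
  have h3 := (cw_iff hc h1).1 hcw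
  have h4 : ∀ s ∈ L14, c' s = 0 := by
    intro s hs
    by_cases hsS : s ∈ S
    · obtain ⟨t, ht, htS, N, hN, hctr⟩ := htab s hsS
      have h5 := h3 t ht
      rw [MM'_apply γ a c' ht, hctr, hS t ht htS, hS' t ht htS, List.map_cons, List.map_nil, List.sum_cons,
        List.sum_nil] at h5
      simp only [pow_one, zero_add, add_zero] at h5
      have h6 : (N : K) ≠ 0 := by
        rcases hN with rfl | rfl
        · simp
        · simp
      rcases mul_eq_zero.1 h5.symm with h7 | h7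
      · exact absurd h7 (mul_ne_zero h6 ha)
      · exact h7
    · exact hS' s hs hsS
  have h5 : y * x * y⁻¹ ∈ X47 K := (R_mem_iff hc').2 h4
  have h6 : x = y * x * y⁻¹ := by
    have h7 := theta_comm (inv_mem hy) h5
    calc x = y⁻¹ * (y * x * y⁻¹) * y := by group
      _ = y * x * y⁻¹ := by rw [h7]; group
  exact (R_mem_iff hc).1 (h6 ▸ h5)

theorem e_mem_MM {r : ℕ} (hr : r ∈ idxM) (t : K) : e r t ∈ MM K :=
  RGD.le_Sup (mem_RootsJ_iff.2 ⟨r, hr, rfl⟩) ((mem_XX_vec hF (lt_idxM r hr)).2 ⟨t, rfl⟩)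

/-- the sources -/
def Sr (γ : ℕ) : List ℕ := if γ = 41 then [24, 26, 29, 31, 32] else if γ = 30 then [24, 26, 36, 42, 43] else [42, 43, 44, 45, 46]

theorem tabS : ∀ γ ∈ ([41, 30, 6] : List ℕ), (Sr γ).Nodup ∧ (Sr γ).length = 5 ∧ (∀ s ∈ Sr γ, s ∈ L14) ∧
    ∀ s ∈ Sr γ, ∃ t ∈ L14, t ∉ Sr γ ∧ (ctr γ t = [(s, 1, 1, 1)] ∨ ctr γ t = [(s, -1, 1, 1)]) := by
  decide +kernel

theorem tabSS : ∀ γ ∈ ([30, 6] : List ℕ), ∀ t ∈ L14, t ∉ Sr 41 → ∀ q ∈ ctr γ t, q.1 ∈ L14 ∧ q.1 ∉ Sr 41 ∧ q.2.2.2 ≠ 0 := by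
  decide +kernel

theorem card_one [Finite K] {γ : ℕ} (hγ : γ ∈ ([41, 30, 6] : List ℕ)) {a : K} (ha : a ≠ 0) {y : ↥(chevF4.group K)}
    (hy : y ∈ MM K) (hyS : ∀ x (c : ℕ → K), x ∈ VV K → R x c → (∀ s ∈ L14, s ∉ Sr γ → c s = 0) →
      ∃ c', R (y * x * y⁻¹) c' ∧ ∀ s ∈ L14, s ∉ Sr γ → c' s = 0) :
    Nat.card K ^ 5 * Nat.card {x : ↥(VV K) // cw (e γ a * y) (x : ↥(chevF4.group K))} ≤ Nat.card K ^ 15 := by
  have hγM : γ ∈ idxM := by
    have h : ∀ γ ∈ ([41, 30, 6] : List ℕ), γ ∈ idxM := by decide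
    exact h γ hγ
  obtain ⟨h1, h2, h3, h4⟩ := tabS γ hγ
  refine count (mul_mem (e_mem_MM hγM a) hy) (Sr γ) h1 h2 h3 (core hγM ha hy hyS ?_)
  intro s hs
  obtain ⟨t, ht, htS, hN | hN⟩ := h4 s hs
  · exact ⟨t, ht, htS, 1, Or.inl rfl, hN⟩
  · exact ⟨t, ht, htS, -1, Or.inr rfl, hN⟩

/-- **the pairs** -/
theorem card_pair [Finite K] {s : ℕ} (hs : s ∈ ([41, 30, 6] : List ℕ)) {a b : K} (hne : e 41 a * e s b ≠ 1) :
    Nat.card K ^ 5 * Nat.card {x : ↥(VV K) // cw (e 41 a * e s b) (x : ↥(chevF4.group K))} ≤ Nat.card K ^ 15 := by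
  have key1 : ∀ {γ : ℕ}, γ ∈ ([41, 30, 6] : List ℕ) → ∀ {a : K}, a ≠ 0 →
      Nat.card K ^ 5 * Nat.card {x : ↥(VV K) // cw (e γ a) (x : ↥(chevF4.group K))} ≤ Nat.card K ^ 15 := by
    intro γ hγ a ha
    have h := card_one hγ ha (one_mem (MM K)) (fun x c _ hc hS => ⟨c, by
      rw [one_mul, inv_one, mul_one]
      exact hc, hS⟩)
    rwa [mul_one] at h
  have h0 : ∀ γ : ℕ, e γ (0 : K) = 1 := fun γ => ex_zero hF γ
  by_cases h41 : s = 41
  · subst h41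
    have h1 : e 41 a * e 41 b = e 41 (a + b) := (ex_add hF 41 a b).symm
    rw [h1] at hne ⊢
    refine key1 (by decide) ?_
    intro h
    rw [h] at hne
    exact hne (h0 41)
  · have hs' : s ∈ ([30, 6] : List ℕ) := by
      simp only [List.mem_cons, List.not_mem_nil, or_false] at hs ⊢
      tauto
    by_cases ha : a = 0
    · subst ha
      rw [h0 41, one_mul] at hne ⊢
      refine key1 hs ?_
      rintro rfl
      exact hne (h0 s)
    · have hsM : s ∈ idxM := by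
        have h : ∀ γ ∈ ([30, 6] : List ℕ), γ ∈ idxM := by decide
        exact h s hs'
      refine card_one (by decide) ha (e_mem_MM hsM b) fun x c _ hc hS => ⟨_, hc.conj hsM b, fun t ht htS => ?_⟩
      rw [MM'_apply s b c ht, hS t ht htS, zero_add]
      apply List.sum_eq_zero
      intro z hz
      rw [List.mem_map] at hz
      obtain ⟨q, hq, rfl⟩ := hz
      obtain ⟨h1, h2, h3⟩ := tabSS s hs' t ht htS q hq
      rw [hS _ h1 h2, zero_pow h3, mul_zero]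

/-- conjugation -/
theorem card_conj [Finite K] {p m : ↥(chevF4.group K)} (hp : p ∈ MM K) :
    Nat.card {x : ↥(VV K) // cw (p * m * p⁻¹) (x : ↥(chevF4.group K))} =
      Nat.card {x : ↥(VV K) // cw m (x : ↥(chevF4.group K))} := by
  have key : ∀ {p m x : ↥(chevF4.group K)}, p ∈ MM K → cw m x → cw (p * m * p⁻¹) (p * x * p⁻¹) := by
    intro p m x hp h
    unfold cw at h ⊢
    have e1 : p * x * p⁻¹ * (p * m * p⁻¹) * (p * x * p⁻¹)⁻¹ * (p * m * p⁻¹)⁻¹ =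
      p * (x * m * x⁻¹ * m⁻¹) * p⁻¹ := by group
    rw [e1, theta_comm hp h, mul_assoc, mul_inv_cancel, mul_one]
    exact h
  symm
  refine Nat.card_congr
    { toFun := fun x => ⟨⟨p * x.1 * p⁻¹, conj_VV hp x.1.2⟩, key hp x.2⟩
      invFun := fun x => ⟨⟨p⁻¹ * x.1 * p, by
        have h := conj_VV (inv_mem hp) x.1.2
        rwa [inv_inv] at h⟩, by
        have h := key (inv_mem hp) x.2
        have e1 : p⁻¹ * (p * m * p⁻¹) * p⁻¹⁻¹ = m := by group
        rw [e1, inv_inv] at h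
        exact h⟩
      left_inv := fun x => by
        apply Subtype.ext
        apply Subtype.ext
        show p⁻¹ * (p * x.1 * p⁻¹) * p = x.1
        group
      right_inv := fun x => by
        apply Subtype.ext
        apply Subtype.ext
        show p * (p⁻¹ * x.1 * p) * p⁻¹ = x.1
        group }

end Cfsg.Agent.H296.FR.X
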